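/-
A finite group in which every nonidentity element fixes exactly two points: bounds on the
points with large stabilisers.
-/
import Mathlib

set_option autoImplicit false

namespace CfsgLib.ExtraFusion

open MulAction

/-- The arithmetic of three orbits. -/
theorem three_key {n a b c e f g : ℕ} (hn : 0 < n) (ha : e * a = n) (hb : f * b = n) (hc : g * c = n)
    (he : 4 ≤ e) (hf : 2 ≤ f) (hg : 2 ≤ g) (hsum : a + b + c = n + 2) :
    f < 4 ∧ g < 4 ∧ a ≤ 12 ∧ (6 ≤ e → a ≤ 2) := by
  have h4a : 4 * a ≤ n := ha ▸ Nat.mul_le_mul_right a he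
  have h2b : 2 * b ≤ n := hb ▸ Nat.mul_le_mul_right b hf
  have h2c : 2 * c ≤ n := hc ▸ Nat.mul_le_mul_right c hg
  have hf4 : f < 4 := by
    by_contra h
    have h4b : 4 * b ≤ n := hb ▸ Nat.mul_le_mul_right b (not_lt.1 h)
    omega
  have hg4 : g < 4 := by
    by_contra h
    have h4c : 4 * c ≤ n := hc ▸ Nat.mul_le_mul_right c (not_lt.1 h)
    omega
  refine ⟨hf4, hg4, ?_⟩
  have h6 : 6 ≤ e → 6 * a ≤ n := fun h => ha ▸ Nat.mul_le_mul_right a h
  by_cases he6 : 6 ≤ e
  · have := h6 he6
    interval_cases f <;> interval_cases g <;> constructor <;> omega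
  · interval_cases e <;> interval_cases f <;> interval_cases g <;> constructor <;> omega

/-- The orbit arithmetic. -/
theorem orbit_arith {r n : ℕ} (s e : Fin r → ℕ) (hn : 0 < n) (he : ∀ i, 2 ≤ e i)
    (hes : ∀ i, e i * s i = n) (hsum : ∑ i, s i + 2 * n = r * n + 2) (m : ℕ) (hm : 4 ≤ m) :
    (∑ i, if m ≤ e i then s i else 0) ≤ 12 ∧ (6 ≤ m → (∑ i, if m ≤ e i then s i else 0) ≤ 2) := by
  have hr : r < 4 := by
    by_contra h
    have h1 : 2 * ∑ i, s i ≤ ∑ _i : Fin r, n := by
      rw [Finset.mul_sum]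
      exact Finset.sum_le_sum fun i _ => hes i ▸ Nat.mul_le_mul_right (s i) (he i)
    simp only [Finset.sum_const, Finset.card_univ, Fintype.card_fin, smul_eq_mul] at h1
    have h4 : 4 * n ≤ r * n := Nat.mul_le_mul_right n (not_lt.1 h)
    omega
  interval_cases r
  · simp
  · simp only [Fin.sum_univ_one] at hsum ⊢
    constructor <;> intros <;> split_ifs <;> omega
  · simp only [Fin.sum_univ_two] at hsum ⊢
    constructor <;> intros <;> split_ifs <;> omega
  · simp only [Fin.sum_univ_three] at hsum ⊢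
    have h0 : 4 ≤ e 0 → _ := fun h => three_key hn (hes 0) (hes 1) (hes 2) h (he 1) (he 2) (by omega)
    have h1 : 4 ≤ e 1 → _ := fun h => three_key hn (hes 1) (hes 0) (hes 2) h (he 0) (he 2) (by omega)
    have h2 : 4 ≤ e 2 → _ := fun h => three_key hn (hes 2) (hes 0) (hes 1) h (he 0) (he 1) (by omega)
    by_cases c0 : m ≤ e 0
    · obtain ⟨a1, a2, a3, a4⟩ := h0 (hm.trans c0)
      rw [if_pos c0, if_neg (by omega), if_neg (by omega)]
      exact ⟨by omega, fun h => by have := a4 (h.trans c0); omega⟩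
    · rw [if_neg c0]
      by_cases c1 : m ≤ e 1
      · obtain ⟨a1, a2, a3, a4⟩ := h1 (hm.trans c1)
        rw [if_pos c1, if_neg (by omega)]
        exact ⟨by omega, fun h => by have := a4 (h.trans c1); omega⟩
      · rw [if_neg c1]
        by_cases c2 : m ≤ e 2
        · obtain ⟨a1, a2, a3, a4⟩ := h2 (hm.trans c2)
          rw [if_pos c2]
          exact ⟨by omega, fun h => by have := a4 (h.trans c2); omega⟩
        · rw [if_neg c2]
          exact ⟨by omega, fun _ => by omega⟩

/-- Few points have a large stabiliser. -/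
theorem fix_two {H Ω : Type*} [Group H] [Finite H] [Finite Ω] [MulAction H Ω]
    (hfix : ∀ h : H, h ≠ 1 → Nat.card (fixedBy Ω h) = 2)
    (hall : ∀ x : Ω, 2 ≤ Nat.card (stabilizer H x)) (m : ℕ) (hm : 4 ≤ m) (T : Finset Ω)
    (hT : ∀ x ∈ T, m ≤ Nat.card (stabilizer H x)) : T.card ≤ 12 ∧ (6 ≤ m → T.card ≤ 2) := by
  classical
  haveI : Fintype H := Fintype.ofFinite H
  haveI : Fintype Ω := Fintype.ofFinite Ω
  set ι := Quotient (orbitRel H Ω)
  haveI : Fintype ι := Fintype.ofFinite ι
  obtain ⟨n, hndef⟩ : ∃ n, n = Fintype.card H := ⟨_, rfl⟩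
  set r := Fintype.card ι
  set ee : Fin r ≃ ι := (Fintype.equivFin ι).symm
  let q : Ω → ι := fun x => Quotient.mk (orbitRel H Ω) x
  let s : Fin r → ℕ := fun i => (Finset.univ.filter fun x : Ω => q x = ee i).card
  let e : Fin r → ℕ := fun i => Nat.card (stabilizer H (ee i).out)
  have hstab : ∀ x, Nat.card (stabilizer H x) * (Finset.univ.filter fun y : Ω => q y = q x).card = n := by
    intro x
    have h1 := card_orbit_mul_card_stabilizer_eq_card_group H x
    have h2 : Fintype.card (orbit H x) = (Finset.univ.filter fun y : Ω => q y = q x).card := by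
      refine Fintype.card_of_subtype _ fun y => ?_
      simp only [Finset.mem_filter, Finset.mem_univ, true_and]
      exact ⟨fun h => orbitRel_apply.1 (Quotient.exact h), fun h => Quotient.sound (orbitRel_apply.2 h)⟩
    rw [hndef, ← h1, h2, Nat.card_eq_fintype_card, mul_comm]
  have hes : ∀ i, e i * s i = n := fun i => by
    have h := hstab (ee i).out
    have hq : q (ee i).out = ee i := Quotient.out_eq _
    rw [hq] at h
    exact h
  have hn : 0 < n := hndef ▸ Fintype.card_pos
  have htot : ∑ i, s i = Fintype.card Ω := by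
    rw [← Finset.card_univ, Finset.card_eq_sum_card_fiberwise (f := q) (t := Finset.univ) fun x _ => Finset.mem_univ _]
    exact Fintype.sum_equiv ee _ _ fun i => rfl
  have hsum : ∑ i, s i + 2 * n = r * n + 2 := by
    have hB := sum_card_fixedBy_eq_card_orbits_mul_card_group H Ω
    rw [← Finset.add_sum_erase _ _ (Finset.mem_univ (1 : H))] at hB
    rw [Finset.sum_congr rfl (g := fun _ => 2) (fun h hh => by
      rw [← Nat.card_eq_fintype_card]; exact hfix h (Finset.ne_of_mem_erase hh))] at hB
    rw [Finset.sum_const, smul_eq_mul, Finset.card_erase_of_mem (Finset.mem_univ _), Finset.card_univ, ← hndef] at hB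
    have h1 : Fintype.card (fixedBy Ω (1 : H)) = Fintype.card Ω :=
      Fintype.card_congr (Equiv.subtypeUnivEquiv fun x => one_smul H x)
    have h2 : Fintype.card (Quotient (orbitRel H Ω)) = r := Fintype.card_congr (Equiv.refl _)
    rw [h1, h2] at hB
    omega
  have hT' : T.card ≤ ∑ i, if m ≤ e i then s i else 0 := by
    rw [Finset.card_eq_sum_card_fiberwise (f := q) (t := Finset.univ) fun x _ => Finset.mem_univ _]
    rw [← Fintype.sum_equiv ee (fun i => (T.filter fun x => q x = ee i).card) _ fun i => rfl]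
    refine Finset.sum_le_sum fun i _ => ?_
    split_ifs with hi
    · exact Finset.card_le_card (Finset.filter_subset_filter _ (Finset.subset_univ T))
    · refine le_of_eq (Finset.card_eq_zero.2 (Finset.filter_eq_empty_iff.2 fun x hx hxi => hi ?_))
      have h1 := hes i
      have h2 := hstab x
      rw [hxi] at h2
      have hsi : 0 < s i := Finset.card_pos.2 ⟨x, Finset.mem_filter.2 ⟨Finset.mem_univ _, hxi⟩⟩
      have : e i = Nat.card (stabilizer H x) := Nat.eq_of_mul_eq_mul_right hsi (h1.trans h2.symm)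
      exact this ▸ hT x hx
  obtain ⟨b1, b2⟩ := orbit_arith s e hn (fun i => hall _) hes hsum m hm
  exact ⟨hT'.trans b1, fun h => hT'.trans (b2 h)⟩

end CfsgLib.ExtraFusion
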