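/-
A finite linear group of order prime to the characteristic in dimension two: lines fixed by
elements of large projective order.
-/
import Cfsg.Agent.Lib.ExtraFusion.FixTwo

set_option autoImplicit false

namespace CfsgLib.ExtraFusion

open scoped LinearAlgebra.Projectivization
open MulAction Projectivization

variable {K V : Type*} [Field K] [AddCommGroup V] [Module K V]

/-- A scalar. -/
def Scal (f : LinearMap.GeneralLinearGroup K V) : Prop := ∃ c : K, ∀ v, (f : Module.End K V) v = c • v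

theorem fix_iff (f : LinearMap.GeneralLinearGroup K V) {v : V} (hv : v ≠ 0) :
    f • mk K v hv = mk K v hv ↔ ∃ c : K, (f : Module.End K V) v = c • v := by
  rw [smul_mk, mk_eq_mk_iff']
  exact exists_congr fun c => ⟨Eq.symm, Eq.symm⟩

theorem scal_fix {f : LinearMap.GeneralLinearGroup K V} (h : Scal f) (x : ℙ K V) : f • x = x := by
  obtain ⟨c, hc⟩ := h
  rw [← mk_rep x]
  exact (fix_iff f _).2 ⟨c, hc _⟩

/-- A non-scalar element of order prime to the characteristic fixes exactly two lines. -/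
theorem two_lines [IsAlgClosed K] (hV : Module.finrank K V = 2) (f : LinearMap.GeneralLinearGroup K V)
    (hf : ¬ Scal f) {N : ℕ} (hN : (N : K) ≠ 0) (hfN : f ^ N = 1) :
    ∃ x y : ℙ K V, x ≠ y ∧ f • x = x ∧ f • y = y ∧ ∀ u, f • u = u → u = x ∨ u = y := by
  haveI : FiniteDimensional K V := Module.finite_of_finrank_eq_succ hV
  haveI : Nontrivial V := Module.nontrivial_of_finrank_pos (R := K) (by omega)
  obtain ⟨F, hF⟩ : ∃ F : Module.End K V, F = (f : Module.End K V) := ⟨_, rfl⟩
  have hinj : Function.Injective F := by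
    intro a b hab
    have e : ∀ v, ((↑f⁻¹ : Module.End K V) (F v)) = v := fun v => by
      rw [hF, ← Module.End.mul_apply, ← Units.val_mul, inv_mul_cancel, Units.val_one, Module.End.one_apply]
    rw [← e a, hab, e b]
  have hFN : F ^ N = 1 := by rw [hF, ← Units.val_pow_eq_pow_val, hfN, Units.val_one]
  obtain ⟨a, ha⟩ := Module.End.exists_eigenvalue F
  obtain ⟨v, hv⟩ := ha.exists_hasEigenvector
  have hv0 : v ≠ 0 := hv.2
  have hav : F v = a • v := hv.apply_eq_smul
  obtain ⟨w, hw⟩ : ∃ w : V, w ∉ Submodule.span K {v} := by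
    by_contra h
    push Not at h
    have : Submodule.span K {v} = ⊤ := eq_top_iff.2 fun u _ => h u
    have h1 := finrank_span_singleton (K := K) hv0
    rw [this, finrank_top] at h1
    omega
  have hli : ∀ {u : V}, u ∉ Submodule.span K {v} → LinearIndependent K ![v, u] := fun hu =>
    (LinearIndependent.pair_iff' hv0).2 fun c hc => hu (Submodule.mem_span_singleton.2 ⟨c, hc⟩)
  have hspan : ∀ {u : V}, u ∉ Submodule.span K {v} → ∀ z : V, ∃ c d : K, z = c • v + d • u := fun {u} hu z => by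
    have h := (hli hu).span_eq_top_of_card_eq_finrank (by simp [hV])
    have hz : z ∈ Submodule.span K (Set.range ![v, u]) := h ▸ Submodule.mem_top
    rw [Matrix.range_cons, Matrix.range_cons, Matrix.range_empty, Set.union_empty, Set.singleton_union,
      Submodule.mem_span_pair] at hz
    obtain ⟨c, d, h⟩ := hz
    exact ⟨c, d, h.symm⟩
  obtain ⟨c, b, hcb⟩ := hspan hw (F w)
  by_cases hab : a = b
  · subst hab
    exfalso
    have hpow : ∀ k : ℕ, (F ^ (k + 1)) w = (((k + 1 : ℕ) : K) * a ^ k * c) • v + a ^ (k + 1) • w := by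
      intro k
      induction k with
      | zero => simpa using hcb
      | succ k ih =>
        rw [pow_succ', Module.End.mul_apply, ih, map_add, map_smul, map_smul, hav, hcb, smul_add, smul_smul,
          smul_smul, smul_smul, ← add_assoc, ← add_smul]
        congr 1
        · congr 1; push_cast; ring
        · congr 1; ring
    obtain ⟨k, rfl⟩ : ∃ k, N = k + 1 := Nat.exists_eq_succ_of_ne_zero (by rintro rfl; simp at hN)
    have h1 := hpow k
    rw [hFN, Module.End.one_apply] at h1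
    have h2 : ((((k + 1 : ℕ) : K) * a ^ k * c) • v + (a ^ (k + 1) - 1) • w) = 0 := by
      rw [sub_smul, one_smul, ← add_sub_assoc, ← h1, sub_self]
    have h3 := (LinearIndependent.pair_iff.1 (hli hw)) _ _ h2
    have ha0 : a ≠ 0 := by
      rintro rfl
      exact hv0 (hinj (by rw [hav, zero_smul, map_zero]))
    have hc0 : c = 0 := (mul_eq_zero.1 h3.1).resolve_left (mul_ne_zero hN (pow_ne_zero _ ha0))
    refine hf ⟨a, fun z => ?_⟩
    obtain ⟨α, β, rfl⟩ := hspan hw z
    rw [← hF, map_add, map_smul, map_smul, hav, hcb, hc0, zero_smul, zero_add, smul_add, smul_comm, smul_comm a β]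
  · obtain ⟨w', hw'def⟩ : ∃ w', w' = w + (c / (b - a)) • v := ⟨_, rfl⟩
    have hw' : w' ∉ Submodule.span K {v} := fun h => hw (by
      have := Submodule.sub_mem _ h (Submodule.smul_mem _ (c / (b - a)) (Submodule.mem_span_singleton_self v))
      rwa [hw'def, add_sub_cancel_right] at this)
    have hw'0 : w' ≠ 0 := fun h => hw' (h ▸ Submodule.zero_mem _)
    have hbw : F w' = b • w' := by
      have hba : b - a ≠ 0 := sub_ne_zero.2 (Ne.symm hab)
      rw [hw'def, map_add, map_smul, hav, hcb, smul_add, smul_smul, smul_smul, add_right_comm, ← add_smul, add_comm]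
      congr 2
      field_simp
      ring
    refine ⟨mk K v hv0, mk K w' hw'0, ?_, (fix_iff f _).2 ⟨a, hF ▸ hav⟩, (fix_iff f _).2 ⟨b, hF ▸ hbw⟩, fun u hu => ?_⟩
    · intro h
      obtain ⟨t, ht⟩ := (mk_eq_mk_iff' K _ _ _ _).1 h.symm
      exact hw' (Submodule.mem_span_singleton.2 ⟨t, ht⟩)
    · rw [← mk_rep u] at hu ⊢
      obtain ⟨l, hl⟩ := (fix_iff f _).1 hu
      obtain ⟨α, β, hαβ⟩ := hspan hw' u.rep
      rw [← hF, hαβ, map_add, map_smul, map_smul, hav, hbw, smul_add, smul_smul, smul_smul, smul_smul,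
        smul_smul] at hl
      have h2 : (α * a - l * α) • v + (β * b - l * β) • w' = 0 := by
        rw [sub_smul, sub_smul, sub_add_sub_comm, hl, sub_self]
      obtain ⟨e1, e2⟩ := (LinearIndependent.pair_iff.1 (hli hw')) _ _ h2
      by_cases hα : α = 0
      · right
        refine (mk_eq_mk_iff' K _ _ _ _).2 ⟨β, ?_⟩
        rw [hαβ, hα, zero_smul, zero_add]
      · left
        have hla : a = l := mul_left_cancel₀ hα ((sub_eq_zero.1 e1).trans (mul_comm l α))
        have hβ : β = 0 := by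
          by_contra hβ
          exact hab (hla.trans (mul_left_cancel₀ hβ ((sub_eq_zero.1 e2).trans (mul_comm l β))).symm)
        refine (mk_eq_mk_iff' K _ _ _ _).2 ⟨α, ?_⟩
        rw [hαβ, hβ, zero_smul, add_zero]

/-- Few lines are fixed by elements of large projective order. -/
theorem lines_bound [IsAlgClosed K] (hV : Module.finrank K V = 2)
    (Gs : Subgroup (LinearMap.GeneralLinearGroup K V)) [Finite Gs]
    (hN : ∀ g ∈ Gs, ∃ N : ℕ, (N : K) ≠ 0 ∧ g ^ N = 1) (m : ℕ) (hm : 4 ≤ m) (T : Finset (ℙ K V))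
    (hT : ∀ x ∈ T, ∃ g ∈ Gs, g • x = x ∧ ∀ k, 0 < k → k < m → ¬ Scal (g ^ k)) :
    T.card ≤ 12 ∧ (6 ≤ m → T.card ≤ 2) := by
  classical
  let Ω : SubMulAction Gs (ℙ K V) :=
    { carrier := {x | ∃ g ∈ Gs, ¬ Scal g ∧ g • x = x}
      smul_mem' := by
        rintro ⟨h, hh⟩ x ⟨g, hg, hns, hgx⟩
        refine ⟨h * g * h⁻¹, mul_mem (mul_mem hh hg) (inv_mem hh), fun ⟨c, hc⟩ => hns ⟨c, fun v => ?_⟩, ?_⟩
        · have h2 := hc ((h : Module.End K V) v)
          rw [← Module.End.mul_apply, ← Units.val_mul, inv_mul_cancel_right, Units.val_mul, Module.End.mul_apply] at h2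
          have h3 := congrArg (↑h⁻¹ : Module.End K V) h2
          rw [map_smul] at h3
          simp only [← Module.End.mul_apply, ← Units.val_mul, inv_mul_cancel, Units.val_one,
            Module.End.one_apply] at h3
          rwa [inv_mul_cancel_left] at h3
        · show (h * g * h⁻¹) • (h • x) = h • x
          rw [mul_smul, mul_smul, inv_smul_smul, hgx] }
  have hpair : ∀ g ∈ Gs, ¬ Scal g → ∃ x y : ℙ K V, x ≠ y ∧ g • x = x ∧ g • y = y ∧ ∀ u, g • u = u → u = x ∨ u = y :=
    fun g hg hns => by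
      obtain ⟨N, hN0, hgN⟩ := hN g hg
      exact two_lines hV g hns hN0 hgN
  haveI : Finite Ω := by
    refine (Set.Finite.subset (Set.finite_iUnion fun g : {g : Gs // ¬ Scal (g : LinearMap.GeneralLinearGroup K V)} =>
      (?_ : Set.Finite {x : ℙ K V | (g.1 : LinearMap.GeneralLinearGroup K V) • x = x})) ?_).to_subtype
    · obtain ⟨x, y, -, -, -, h⟩ := hpair _ g.1.2 g.2
      exact Set.Finite.subset ((Set.finite_singleton y).insert x) h
    · rintro x ⟨g, hg, hns, hgx⟩
      exact Set.mem_iUnion.2 ⟨⟨⟨g, hg⟩, hns⟩, hgx⟩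
  let π : Gs →* Equiv.Perm Ω := MulAction.toPermHom Gs Ω
  have hπ : ∀ (g : Gs) (x : Ω), π g x = x ↔ (g : LinearMap.GeneralLinearGroup K V) • (x : ℙ K V) = x :=
    fun g x => Subtype.ext_iff
  have hTΩ : ∀ x ∈ T, x ∈ Ω := fun x hx => by
    obtain ⟨g, hg, hgx, hk⟩ := hT x hx
    exact ⟨g, hg, pow_one g ▸ hk 1 one_pos (by omega), hgx⟩
  by_cases hsmall : Nat.card Ω ≤ 2
  · have hc : T.card ≤ Nat.card Ω := by
      rw [← Fintype.card_coe, ← Nat.card_eq_fintype_card]
      exact Nat.card_le_card_of_injective (fun x : T => (⟨x.1, hTΩ x.1 x.2⟩ : Ω))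
        fun a b h => Subtype.ext (congrArg Subtype.val h :)
    exact ⟨by omega, fun _ => by omega⟩
  have hne : ∀ g : Gs, ¬ Scal (g : LinearMap.GeneralLinearGroup K V) → π g ≠ 1 := fun g hns h => hsmall (by
    obtain ⟨x, y, -, -, -, hxy⟩ := hpair _ g.2 hns
    have hf : Function.Injective fun u : Ω => (decide ((u : ℙ K V) = x)) := fun u u' huu => by
      have hu : ∀ u : Ω, (u : ℙ K V) = x ∨ (u : ℙ K V) = y := fun u => hxy _ ((hπ g u).1 (by rw [h]; rfl))
      simp only [decide_eq_decide] at huu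
      refine Subtype.ext ?_
      rcases hu u with e | e
      · exact e.trans (huu.1 e).symm
      · rcases hu u' with e' | e'
        · exact (huu.2 e').trans e'.symm
        · exact e.trans e'.symm
    exact (Nat.card_le_card_of_injective _ hf).trans (by simp))
  have hfix : ∀ γ : π.range, γ ≠ 1 → Nat.card (fixedBy Ω γ) = 2 := by
    rintro ⟨_, g, rfl⟩ hγ
    have hns : ¬ Scal (g : LinearMap.GeneralLinearGroup K V) := fun h =>
      hγ (Subtype.ext (Equiv.ext fun u => (hπ g u).2 (scal_fix h _)))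
    obtain ⟨x, y, hxy, hx, hy, h⟩ := hpair _ g.2 hns
    have hxm : x ∈ Ω := ⟨g, g.2, hns, hx⟩
    have hym : y ∈ Ω := ⟨g, g.2, hns, hy⟩
    rw [Nat.card_coe_set_eq, Set.ncard_eq_two]
    refine ⟨⟨x, hxm⟩, ⟨y, hym⟩, fun e => hxy (congrArg Subtype.val e), Set.ext fun u => ?_⟩
    simp only [mem_fixedBy, Set.mem_insert_iff, Set.mem_singleton_iff]
    show π g u = u ↔ _
    rw [hπ]
    exact ⟨fun e => (h _ e).imp Subtype.ext Subtype.ext, by rintro (rfl | rfl) <;> assumption⟩
  have hall : ∀ u : Ω, 2 ≤ Nat.card (stabilizer π.range u) := fun u => by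
    obtain ⟨g, hg, hns, hgu⟩ := u.2
    haveI : Nontrivial (stabilizer π.range u) :=
      ⟨⟨⟨⟨π ⟨g, hg⟩, ⟨_, rfl⟩⟩, (hπ _ u).2 hgu⟩, 1, fun e =>
        hne ⟨g, hg⟩ hns (congrArg (fun z : stabilizer π.range u => ((z : π.range) : Equiv.Perm Ω)) e)⟩⟩
    exact Finite.one_lt_card
  let emb : T ↪ Ω := ⟨fun x => ⟨x.1, hTΩ x.1 x.2⟩, fun a b h => Subtype.ext (congrArg Subtype.val h :)⟩
  have hbound := fix_two hfix hall m hm (T.attach.map emb) (fun u hu => by
    obtain ⟨⟨x, hx⟩, -, rfl⟩ := Finset.mem_map.1 hu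
    obtain ⟨g, hg, hgx, hk⟩ := hT x hx
    let γ : π.range := ⟨π ⟨g, hg⟩, ⟨_, rfl⟩⟩
    have hle : Subgroup.zpowers γ ≤ stabilizer π.range (⟨x, hTΩ x hx⟩ : Ω) :=
      Subgroup.zpowers_le.2 ((hπ _ _).2 hgx)
    refine le_trans ?_ (Subgroup.card_le_of_le hle)
    rw [Nat.card_zpowers]
    by_contra hlt
    push Not at hlt
    have h1 : γ ^ orderOf γ = 1 := pow_orderOf_eq_one γ
    have h2 := congrArg (fun z : π.range => (z : Equiv.Perm Ω)) h1
    simp only [SubmonoidClass.coe_pow, OneMemClass.coe_one] at h2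
    refine hne (⟨g, hg⟩ ^ orderOf γ) (hk _ (orderOf_pos γ) hlt) ?_
    rw [map_pow]
    exact h2)
  rwa [Finset.card_map, Finset.card_attach] at hbound

end CfsgLib.ExtraFusion
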