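/-
Extraspecial Sylow subgroup of order p^3 and exponent p: a torus element from fusion of the centre.
-/
import Cfsg.Agent.Lib.ExtraspecialOddIso

set_option autoImplicit false
open scoped commutatorElement Pointwise

namespace CfsgLib.ExtraFusion

variable {G : Type*} [Group G]

/-- An extraspecial Sylow subgroup of order `p^3` and exponent `p`, with central generator `z`. -/
structure Ext (p : ℕ) (P : Sylow p G) (z : G) : Prop where
  zP : z ∈ (P : Subgroup G)
  ne : z ≠ 1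
  exp : ∀ q ∈ (P : Subgroup G), q ^ p = 1
  central : ∀ q ∈ (P : Subgroup G), Commute q z
  comm : ∀ a ∈ (P : Subgroup G), ∀ b ∈ (P : Subgroup G), ⁅a, b⁆ ∈ Subgroup.zpowers z
  noncentral : ∀ x ∈ (P : Subgroup G), x ∉ Subgroup.zpowers z → ∃ w ∈ (P : Subgroup G), ¬ Commute w x

variable {p : ℕ} [Fact p.Prime] {P : Sylow p G} {z : G}

theorem exists_ext [Finite G] (hE : Cfsg.IsExtraspecial p ↥P) (hexp : Monoid.exponent ↥P = p) :
    ∃ z, Ext p P z := by
  obtain ⟨z, h⟩ := CfsgLib.ExtraOdd.ofExtraspecial hE hexp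
  refine ⟨(z : G), z.2, fun e => h.ne (Subtype.ext e), fun q hq => congrArg Subtype.val (h.exp ⟨q, hq⟩),
    fun q hq => congrArg Subtype.val (h.z_comm (Subgroup.mem_zpowers z) ⟨q, hq⟩).eq, fun a ha b hb => ?_, fun x hx hxz => ?_⟩
  · obtain ⟨k, hk⟩ := Subgroup.mem_zpowers_iff.1 (h.comm ⟨a, ha⟩ ⟨b, hb⟩)
    exact Subgroup.mem_zpowers_iff.2 ⟨k, by simpa [commutatorElement_def] using congrArg Subtype.val hk⟩
  · have : (⟨x, hx⟩ : P) ∉ Subgroup.center ↥P := fun hc => hxz (by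
      obtain ⟨k, hk⟩ := Subgroup.mem_zpowers_iff.1 ((h.center_iff _).1 hc)
      exact Subgroup.mem_zpowers_iff.2 ⟨k, by simpa using congrArg Subtype.val hk⟩)
    rw [Subgroup.mem_center_iff] at this
    push Not at this
    obtain ⟨w, hw⟩ := this
    exact ⟨w, w.2, fun e => hw (Subtype.ext e.eq)⟩

namespace Ext

variable (D : Ext p P z)
include D

theorem order_z : orderOf z = p := orderOf_eq_prime (D.exp z D.zP) D.ne

theorem exists_shift {x : G} (hx : x ∈ (P : Subgroup G)) (hxz : x ∉ Subgroup.zpowers z) :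
    ∃ u ∈ (P : Subgroup G), u * x * u⁻¹ = x * z := by
  obtain ⟨w, hw, hwx⟩ := D.noncentral x hx hxz
  obtain ⟨c, hcdef⟩ : ∃ c, c = x⁻¹ * w * x * w⁻¹ := ⟨_, rfl⟩
  have hc : c ∈ Subgroup.zpowers z := by
    have := D.comm x⁻¹ (inv_mem hx) w hw
    rwa [commutatorElement_def, inv_inv, ← hcdef] at this
  have hc1 : c ≠ 1 := fun e => hwx (by
    show w * x = x * w
    rw [hcdef, mul_inv_eq_one, mul_assoc, inv_mul_eq_iff_eq_mul] at e
    exact e)
  have hcomm : ∀ q ∈ (P : Subgroup G), Commute q c := fun q hq => by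
    obtain ⟨k, rfl⟩ := Subgroup.mem_zpowers_iff.1 hc
    exact (D.central q hq).zpow_right k
  have hstep : w * x * w⁻¹ = x * c := by rw [hcdef]; group
  have hpow : ∀ k : ℕ, w ^ k * x * (w ^ k)⁻¹ = x * c ^ k := by
    intro k
    induction k with
    | zero => simp
    | succ k ih =>
      rw [pow_succ' w, mul_inv_rev, show w * w ^ k * x * ((w ^ k)⁻¹ * w⁻¹) = w * (w ^ k * x * (w ^ k)⁻¹) * w⁻¹ by group,
        ih, show w * (x * c ^ k) * w⁻¹ = (w * x * w⁻¹) * (w * c ^ k * w⁻¹) by group, hstep,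
        ((hcomm w hw).pow_right k).eq, mul_inv_cancel_right, mul_assoc, ← pow_succ']
  haveI : Finite (Subgroup.zpowers z) := Nat.finite_of_card_ne_zero (by
    rw [Nat.card_zpowers, D.order_z]; exact (Fact.out : p.Prime).ne_zero)
  have hzc : z ∈ Subgroup.zpowers c := by
    have hle : Subgroup.zpowers c ≤ Subgroup.zpowers z := Subgroup.zpowers_le.2 hc
    have h := Subgroup.card_dvd_of_le hle
    rw [Nat.card_zpowers z, D.order_z] at h
    rcases (Nat.dvd_prime (Fact.out : p.Prime)).1 h with e | e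
    · exact absurd (Subgroup.mem_bot.1 ((Subgroup.eq_bot_of_card_eq _ e).le (Subgroup.mem_zpowers c))) hc1
    · exact (Subgroup.eq_of_le_of_card_ge hle (by rw [Nat.card_zpowers z, D.order_z, e])).ge (Subgroup.mem_zpowers z)
  have hfo : IsOfFinOrder c := isOfFinOrder_iff_pow_eq_one.2 ⟨p, (Fact.out : p.Prime).pos, D.exp c (Subgroup.zpowers_le.2 D.zP hc)⟩
  obtain ⟨k, hk⟩ := (hfo.mem_powers_iff_mem_zpowers.2 hzc : z ∈ Submonoid.powers c)
  exact ⟨w ^ k, pow_mem hw k, by rw [hpow, ← hk]⟩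

theorem pow_val_add {q : G} (hq : q ∈ (P : Subgroup G)) (i j : ZMod p) :
    q ^ (i + j).val = q ^ i.val * q ^ j.val := by
  haveI : NeZero p := ⟨(Fact.out : p.Prime).ne_zero⟩
  rw [ZMod.val_add, ← pow_add]
  conv_rhs => rw [← Nat.mod_add_div (i.val + j.val) p, pow_add, pow_mul, D.exp q hq, one_pow, mul_one]

omit D in
theorem conj_mul (w a b : G) : w * (a * b) * w⁻¹ = (w * a * w⁻¹) * (w * b * w⁻¹) := by group

omit D in
theorem conj_pow' (w a : G) (n : ℕ) : w * a ^ n * w⁻¹ = (w * a * w⁻¹) ^ n := by rw [conj_pow]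

omit D in
theorem comp_conj (a b q : G) : a * b * q * (a * b)⁻¹ = a * (b * q * b⁻¹) * a⁻¹ := by group

/-- The torus element. -/
theorem torus [Finite G] {g x : G} (hx : x ∈ (P : Subgroup G)) (hxz : x ∉ Subgroup.zpowers z) (hgx : g * z * g⁻¹ = x)
    (hg' : g⁻¹ * z * g ∈ (P : Subgroup G)) (s t : ZMod p) (hst : s * t = 1) :
    ∃ h ∈ Subgroup.normalizer ((P : Subgroup G) : Set G), h * x * h⁻¹ = x ^ s.val ∧ h * z * h⁻¹ = z ^ t.val ∧
      ∃ u ∈ (P : Subgroup G), ¬ Commute u x ∧ Commute ((u ^ (t * t).val)⁻¹ * (h * u * h⁻¹)) x := by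
  haveI : NeZero p := ⟨(Fact.out : p.Prime).ne_zero⟩
  have hzx : Commute x z := D.central x hx
  obtain ⟨u, hu, hux⟩ := D.exists_shift hx hxz
  have huz : u * z * u⁻¹ = z := by rw [(D.central u hu).eq, mul_inv_cancel_right]
  have hx' : g⁻¹ * z * g ∉ Subgroup.zpowers z := fun h => by
    obtain ⟨k, hk⟩ := Subgroup.mem_zpowers_iff.1 h
    have hxk : x ^ k = z := by rw [← hgx, conj_zpow, hk]; group
    have hkp : ¬ (p : ℤ) ∣ k := fun ⟨m, hm⟩ => D.ne (by
      rw [← hxk, hm, zpow_mul, zpow_natCast, D.exp x hx, one_zpow])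
    obtain ⟨a, b, hab⟩ := ((Nat.prime_iff_prime_int.1 (Fact.out : p.Prime)).coprime_iff_not_dvd.2 hkp)
    refine hxz (Subgroup.mem_zpowers_iff.2 ⟨b, ?_⟩)
    rw [← hxk, ← zpow_mul]
    calc x ^ (k * b) = (x ^ (p : ℤ)) ^ a * x ^ (k * b) := by rw [zpow_natCast, D.exp x hx, one_zpow, one_mul]
      _ = x ^ (a * p + b * k) := by rw [← zpow_mul, ← zpow_add]; ring_nf
      _ = x := by rw [hab, zpow_one]
  obtain ⟨u', hu', hu'x⟩ := D.exists_shift hg' hx'
  obtain ⟨v, hvdef⟩ : ∃ v, v = g * u' * g⁻¹ := ⟨_, rfl⟩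
  have hvx : v * x * v⁻¹ = x := by
    rw [hvdef, ← hgx, show g * u' * g⁻¹ * (g * z * g⁻¹) * (g * u' * g⁻¹)⁻¹ = g * (u' * z * u'⁻¹) * g⁻¹ by group,
      (D.central u' hu').eq, mul_inv_cancel_right]
  have hvz : v * z * v⁻¹ = z * x := by
    rw [hvdef, show g * u' * g⁻¹ * z * (g * u' * g⁻¹)⁻¹ = g * (u' * (g⁻¹ * z * g) * u'⁻¹) * g⁻¹ by group, hu'x,
      show g * (g⁻¹ * z * g * z) * g⁻¹ = z * (g * z * g⁻¹) by group, hgx]
  let E : ZMod p → ZMod p → G := fun i j => x ^ i.val * z ^ j.val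
  have hE10 : E 1 0 = x := by simp [E, ZMod.val_one, ZMod.val_zero]
  have hE01 : E 0 1 = z := by simp [E, ZMod.val_one, ZMod.val_zero]
  have hUn : ∀ (n : ℕ) (i j : ZMod p), u ^ n * E i j * (u ^ n)⁻¹ = E i (j + n * i) := by
    intro n
    induction n with
    | zero => intro i j; simp
    | succ n ih =>
      intro i j
      rw [pow_succ u, comp_conj, show u * E i j * u⁻¹ = E i (j + i) by
        show u * (x ^ i.val * z ^ j.val) * u⁻¹ = x ^ i.val * z ^ (j + i).val
        rw [conj_mul, conj_pow', conj_pow', hux, huz, hzx.mul_pow, D.pow_val_add D.zP j i,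
          ((Commute.refl z).pow_pow i.val j.val).eq.symm.trans (((Commute.refl z).pow_pow i.val j.val).eq), mul_assoc,
          ((Commute.refl z).pow_pow i.val j.val).eq], ih]
      push_cast
      ring_nf
  have hVn : ∀ (n : ℕ) (i j : ZMod p), v ^ n * E i j * (v ^ n)⁻¹ = E (i + n * j) j := by
    intro n
    induction n with
    | zero => intro i j; simp
    | succ n ih =>
      intro i j
      rw [pow_succ v, comp_conj, show v * E i j * v⁻¹ = E (i + j) j by
        show v * (x ^ i.val * z ^ j.val) * v⁻¹ = x ^ (i + j).val * z ^ j.val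
        rw [conj_mul, conj_pow', conj_pow', hvx, hvz, hzx.symm.mul_pow, D.pow_val_add hx i j,
          (hzx.pow_pow j.val j.val).symm.eq, mul_assoc], ih]
      push_cast
      ring_nf
  have hU : ∀ a i j : ZMod p, u ^ a.val * E i j * (u ^ a.val)⁻¹ = E i (j + a * i) := fun a i j => by
    rw [hUn, ZMod.natCast_zmod_val]
  have hV : ∀ a i j : ZMod p, v ^ a.val * E i j * (v ^ a.val)⁻¹ = E (i + a * j) j := fun a i j => by
    rw [hVn, ZMod.natCast_zmod_val]
  have hE : ∀ i j, E i j = x ^ i.val * z ^ j.val := fun _ _ => rfl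
  clear_value E
  obtain ⟨h₀, h₀def⟩ : ∃ h₀, h₀ = v ^ s.val * u ^ (-t).val * v ^ s.val * v ^ (-1 : ZMod p).val * u ^ (1 : ZMod p).val *
    v ^ (-1 : ZMod p).val := ⟨_, rfl⟩
  have hh₀ : ∀ i j : ZMod p, h₀ * E i j * h₀⁻¹ = E (s * i) (t * j) := fun i j => by
    rw [h₀def]
    simp only [comp_conj, hU, hV]
    congr 1
    · linear_combination (j - s * i) * hst
    · linear_combination (-i) * hst
  obtain ⟨C, hCdef⟩ : ∃ C, C = Subgroup.centralizer ({x, z} : Set G) := ⟨_, rfl⟩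
  have hC : ∀ w, w ∈ C ↔ w * x * w⁻¹ = x ∧ w * z * w⁻¹ = z := fun w => by
    rw [hCdef, Subgroup.mem_centralizer_iff]
    simp only [Set.mem_insert_iff, Set.mem_singleton_iff, forall_eq_or_imp, forall_eq, mul_inv_eq_iff_eq_mul]
    exact ⟨fun h => ⟨h.1.symm, h.2.symm⟩, fun h => ⟨h.1.symm, h.2.symm⟩⟩
  have hEC : ∀ w ∈ C, ∀ i j, w * E i j * w⁻¹ = E i j := fun w hw i j => by
    obtain ⟨e1, e2⟩ := (hC w).1 hw
    rw [hE, conj_mul, conj_pow', conj_pow', e1, e2]
  obtain ⟨M, hMdef⟩ : ∃ M, M = (P : Subgroup G) ⊔ C := ⟨_, rfl⟩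
  have hPC : (P : Subgroup G) ≤ Subgroup.normalizer (C : Set G) := by
    intro y hy
    have hfix : ∀ y ∈ (P : Subgroup G), ∀ d ∈ C, y * d * y⁻¹ ∈ C := fun y hy d hd => by
      obtain ⟨k, hk⟩ := Subgroup.mem_zpowers_iff.1 (D.comm y⁻¹ (inv_mem hy) x hx)
      have hkz : d * z ^ k * d⁻¹ = z ^ k := by rw [← conj_zpow, ((hC d).1 hd).2]
      have hyx : y⁻¹ * x * y = z ^ k * x := by rw [hk, commutatorElement_def]; group
      refine (hC _).2 ⟨?_, ?_⟩
      · rw [show y * d * y⁻¹ * x * (y * d * y⁻¹)⁻¹ = y * (d * (y⁻¹ * x * y) * d⁻¹) * y⁻¹ by group, hyx, conj_mul d (z ^ k) x, hkz,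
          ((hC d).1 hd).1, ← hyx]
        group
      · have hyz : y⁻¹ * z * y = z := by rw [(D.central _ (inv_mem hy)).eq, inv_mul_cancel_right]
        rw [show y * d * y⁻¹ * z * (y * d * y⁻¹)⁻¹ = y * (d * (y⁻¹ * z * y) * d⁻¹) * y⁻¹ by group, hyz,
          ((hC d).1 hd).2, (D.central y hy).eq, mul_inv_cancel_right]
    rw [Subgroup.mem_normalizer_iff]
    refine fun d => ⟨hfix y hy d, fun h => ?_⟩
    have := hfix y⁻¹ (inv_mem hy) _ h
    rwa [show y⁻¹ * (y * d * y⁻¹) * y⁻¹⁻¹ = d by group] at this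
  have hinv : ∀ i j : ZMod p, h₀⁻¹ * E i j * h₀ = E (t * i) (s * j) := fun i j => by
    have h := hh₀ (t * i) (s * j)
    rw [show s * (t * i) = i by linear_combination i * hst, show t * (s * j) = j by linear_combination j * hst] at h
    rw [← h]; group
  have hmap : ∀ w ∈ M, h₀ * w * h₀⁻¹ ∈ M := by
    have hle : M ≤ M.comap (MulAut.conj h₀).toMonoidHom := by
      rw [hMdef]
      refine sup_le (fun y hy => ?_) (fun d hd => ?_)
      · show h₀ * y * h₀⁻¹ ∈ (P : Subgroup G) ⊔ C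
        obtain ⟨k, hk⟩ := Subgroup.mem_zpowers_iff.1 (D.comm y hy x hx)
        have hyx : y * x * y⁻¹ = z ^ k * x := by rw [hk, commutatorElement_def]; group
        have hyE : ∀ i j : ZMod p, y * E i j * y⁻¹ = E i (j + (k : ZMod p) * i) := fun i j => by
          have hzk : z ^ k = z ^ ((k : ZMod p)).val := by
            rw [← zpow_natCast z, ZMod.val_intCast, ← D.order_z, zpow_mod_orderOf]
          have h1 : u ^ ((k : ZMod p)).val * x * (u ^ ((k : ZMod p)).val)⁻¹ = x * z ^ ((k : ZMod p)).val := by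
            have := hU (k : ZMod p) 1 0
            rwa [hE10, hE, mul_one, zero_add, ZMod.val_one, pow_one] at this
          rw [← hU, hE, conj_mul, conj_mul, conj_pow', conj_pow', conj_pow', conj_pow', h1, hyx, hzk,
            (D.central y hy).eq, mul_inv_cancel_right, (D.central _ (pow_mem hu _)).eq, mul_inv_cancel_right,
            (hzx.pow_right _).eq]
        have hdC : (u ^ (t * (k : ZMod p) * t).val)⁻¹ * (h₀ * y * h₀⁻¹) ∈ C := by
          refine (hC _).2 ⟨?_, ?_⟩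
          · rw [← hE10, comp_conj, show h₀ * y * h₀⁻¹ * E 1 0 * (h₀ * y * h₀⁻¹)⁻¹ =
              h₀ * (y * (h₀⁻¹ * E 1 0 * h₀) * y⁻¹) * h₀⁻¹ by group, hinv, hyE, hh₀,
              show E (s * (t * 1)) (t * (s * 0 + (k : ZMod p) * (t * 1))) =
                u ^ (t * (k : ZMod p) * t).val * E 1 0 * (u ^ (t * (k : ZMod p) * t).val)⁻¹ by
                rw [hU]; congr 1 <;> [linear_combination hst; ring]]
            group
          · rw [← hE01, comp_conj, show h₀ * y * h₀⁻¹ * E 0 1 * (h₀ * y * h₀⁻¹)⁻¹ =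
              h₀ * (y * (h₀⁻¹ * E 0 1 * h₀) * y⁻¹) * h₀⁻¹ by group, hinv, hyE, hh₀,
              show E (s * (t * 0)) (t * (s * 1 + (k : ZMod p) * (t * 0))) =
                u ^ (t * (k : ZMod p) * t).val * E 0 1 * (u ^ (t * (k : ZMod p) * t).val)⁻¹ by
                rw [hU]; congr 1 <;> [ring; linear_combination hst]]
            group
        have := Subgroup.mul_mem_sup (pow_mem hu (t * (k : ZMod p) * t).val) hdC
        rwa [mul_inv_cancel_left] at this
      · refine Subgroup.mem_sup_right ((hC _).2 ⟨?_, ?_⟩)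
        · rw [← hE10, show (MulAut.conj h₀).toMonoidHom d * E 1 0 * ((MulAut.conj h₀).toMonoidHom d)⁻¹ =
            h₀ * (d * (h₀⁻¹ * E 1 0 * h₀) * d⁻¹) * h₀⁻¹ by simp only [MulEquiv.coe_toMonoidHom, MulAut.conj_apply]; group,
            hinv, hEC d hd, hh₀]
          congr 1 <;> [linear_combination hst; ring]
        · rw [← hE01, show (MulAut.conj h₀).toMonoidHom d * E 0 1 * ((MulAut.conj h₀).toMonoidHom d)⁻¹ =
            h₀ * (d * (h₀⁻¹ * E 0 1 * h₀) * d⁻¹) * h₀⁻¹ by simp only [MulEquiv.coe_toMonoidHom, MulAut.conj_apply]; group,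
            hinv, hEC d hd, hh₀]
          congr 1 <;> [ring; linear_combination hst]
    exact fun w hw => hle hw
  have hPM : (P : Subgroup G) ≤ M := hMdef ▸ le_sup_left
  have hhPM : ((h₀ • P : Sylow p G) : Subgroup G) ≤ M := by
    intro q hq
    rw [Sylow.coe_subgroup_smul, Subgroup.mem_pointwise_smul_iff_inv_smul_mem] at hq
    have := hmap _ (hPM hq)
    simpa [MulAut.smul_def, mul_assoc] using this
  obtain ⟨m, hm⟩ := MulAction.exists_smul_eq M ((h₀ • P).subtype hhPM) (P.subtype hPM)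
  rw [Sylow.smul_subtype] at hm
  have hmP : (m : G) • h₀ • P = P := Sylow.subtype_injective hm
  rw [← mul_smul, Sylow.smul_eq_iff_mem_normalizer] at hmP
  have hmM : (m : G) ∈ ((P : Subgroup G) : Set G) * (C : Set G) := by
    rw [← Subgroup.coe_mul_of_left_le_normalizer_right _ _ hPC, ← hMdef]
    exact m.2
  obtain ⟨y, hy, d, hd, hyd⟩ := hmM
  have hyd' : y * d = m := hyd
  obtain ⟨h, hhdef⟩ : ∃ h, h = d * h₀ := ⟨_, rfl⟩
  have hhN : h ∈ Subgroup.normalizer ((P : Subgroup G) : Set G) := by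
    have := mul_mem (inv_mem (Subgroup.le_normalizer hy)) hmP
    rwa [← hyd', show y⁻¹ * (y * d * h₀) = d * h₀ by group, ← hhdef] at this
  have hhE : ∀ i j : ZMod p, h * E i j * h⁻¹ = E (s * i) (t * j) := fun i j => by
    rw [hhdef, comp_conj, hh₀, hEC d hd]
  refine ⟨h, hhN, ?_, ?_, u, hu, ?_, ?_⟩
  · have := hhE 1 0
    rwa [hE10, hE, mul_one, mul_zero, ZMod.val_zero, pow_zero, mul_one] at this
  · have := hhE 0 1
    rwa [hE01, hE, mul_one, mul_zero, ZMod.val_zero, pow_zero, one_mul] at this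
  · intro hc
    rw [hc.eq, mul_inv_cancel_right] at hux
    exact D.ne (mul_eq_left.1 hux.symm)
  · have hinv' : ∀ i j : ZMod p, h⁻¹ * E i j * h = E (t * i) (s * j) := fun i j => by
      have h' := hhE (t * i) (s * j)
      rw [show s * (t * i) = i by linear_combination i * hst, show t * (s * j) = j by linear_combination j * hst] at h'
      rw [← h']; group
    have hu1 : ∀ i j : ZMod p, u * E i j * u⁻¹ = E i (j + i) := fun i j => by
      have := hU 1 i j
      rwa [ZMod.val_one, pow_one, one_mul] at this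
    have h1 : h * u * h⁻¹ * E 1 0 * (h * u * h⁻¹)⁻¹ = u ^ (t * t).val * E 1 0 * (u ^ (t * t).val)⁻¹ := by
      rw [show h * u * h⁻¹ * E 1 0 * (h * u * h⁻¹)⁻¹ = h * (u * (h⁻¹ * E 1 0 * h) * u⁻¹) * h⁻¹ by group, hinv', hu1,
        hhE, hU]
      congr 1 <;> [linear_combination hst; ring]
    rw [hE10] at h1
    have h2 : ((u ^ (t * t).val)⁻¹ * (h * u * h⁻¹)) * x * ((u ^ (t * t).val)⁻¹ * (h * u * h⁻¹))⁻¹ = x := by
      rw [comp_conj, h1]; group
    exact mul_inv_eq_iff_eq_mul.1 h2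

end Ext

end CfsgLib.ExtraFusion
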