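/-
Extraspecial Sylow subgroup of order p^3: lines of P/Z fixed by torus elements.
-/
import Cfsg.Agent.Lib.ExtraFusion.Lines
import Cfsg.Agent.Lib.ExtraFusion.Torus

set_option autoImplicit false

namespace CfsgLib.ExtraFusion

open scoped LinearAlgebra.Projectivization
open Projectivization

variable {G : Type*} [Group G] [Finite G] {p : ℕ} [Fact p.Prime] {P : Sylow p G}

omit [Finite G] in
theorem elem_two {A : Type*} [CommGroup A] [Finite A] (hexp : ∀ a : A, a ^ p = 1) (hcard : Nat.card A = p ^ 2) :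
    Nonempty (A ≃* Multiplicative (Fin 2 → ZMod p)) := by
  have hz : ∀ w : Additive A, p • w = 0 := fun w => by
    apply Additive.toMul.injective
    rw [toMul_nsmul, toMul_zero]
    exact hexp _
  obtain ⟨mA⟩ : Nonempty (Module (ZMod p) (Additive A)) := ⟨AddCommGroup.zmodModule hz⟩
  have : FiniteDimensional (ZMod p) (Additive A) := Module.Finite.of_finite
  let b := Module.finBasis (ZMod p) (Additive A)
  have h4 : p ^ 2 = p ^ Module.finrank (ZMod p) (Additive A) := by
    rw [← hcard, ← Nat.card_congr Additive.toMul, Nat.card_congr b.equivFun.toEquiv, Nat.card_fun, Nat.card_zmod,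
      Nat.card_eq_fintype_card, Fintype.card_fin]
  have hV := (Nat.pow_right_injective (Fact.out : p.Prime).two_le h4).symm
  exact ⟨AddEquiv.toMultiplicativeRight (LinearEquiv.ofFinrankEq (Additive A) (Fin 2 → ZMod p)
    (hV.trans (Module.finrank_fin_fun (ZMod p)).symm)).toAddEquiv⟩

/-- Coordinates of `P/Z(P)`. -/
theorem exists_phi {z : G} (D : Ext p P z) (hcard : Nat.card P = p ^ 3) :
    ∃ φ : ↥(P : Subgroup G) →* Multiplicative (Fin 2 → ZMod p), Function.Surjective φ ∧
      ∀ q : ↥(P : Subgroup G), φ q = 1 ↔ (q : G) ∈ Subgroup.zpowers z := by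
  change Nat.card ↥(P : Subgroup G) = p ^ 3 at hcard
  obtain ⟨Z, hZdef⟩ : ∃ Z, Z = (Subgroup.zpowers z).subgroupOf (P : Subgroup G) := ⟨_, rfl⟩
  have hmem : ∀ q : ↥(P : Subgroup G), q ∈ Z ↔ (q : G) ∈ Subgroup.zpowers z := fun q => by
    rw [hZdef, Subgroup.mem_subgroupOf]
  haveI : Z.Normal := ⟨fun n hn g => by
    obtain ⟨k, hk⟩ := Subgroup.mem_zpowers_iff.1 ((hmem n).1 hn)
    refine (hmem _).2 (Subgroup.mem_zpowers_iff.2 ⟨k, ?_⟩)
    push_cast
    rw [← hk, ((D.central g g.2).zpow_right k).eq, mul_inv_cancel_right]⟩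
  letI : CommGroup (↥(P : Subgroup G) ⧸ Z) :=
    { (inferInstance : Group (↥(P : Subgroup G) ⧸ Z)) with
      mul_comm := fun a b => by
        induction a using QuotientGroup.induction_on with | _ a => ?_
        induction b using QuotientGroup.induction_on with | _ b => ?_
        refine QuotientGroup.eq.2 ((hmem _).2 ?_)
        have := D.comm (b : G)⁻¹ (inv_mem b.2) (a : G)⁻¹ (inv_mem a.2)
        simpa [commutatorElement_def, mul_assoc] using this }
  have hexp : ∀ w : ↥(P : Subgroup G) ⧸ Z, w ^ p = 1 := fun w => by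
    induction w using QuotientGroup.induction_on with | _ q => ?_
    rw [← QuotientGroup.mk_pow, show q ^ p = 1 from Subtype.ext (D.exp q q.2), QuotientGroup.mk_one]
  have h1 := Subgroup.card_eq_card_quotient_mul_card_subgroup Z
  have h2 : Nat.card Z = p := by
    rw [hZdef, Nat.card_congr (Subgroup.subgroupOfEquivOfLe (Subgroup.zpowers_le.2 D.zP)).toEquiv,
      Nat.card_zpowers, D.order_z]
  rw [hcard, h2, pow_succ] at h1
  obtain ⟨e⟩ := elem_two hexp (Nat.eq_of_mul_eq_mul_right (Fact.out : p.Prime).pos h1).symm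
  refine ⟨e.toMonoidHom.comp (QuotientGroup.mk' Z), e.surjective.comp (QuotientGroup.mk'_surjective Z), fun q => ?_⟩
  rw [← hmem, ← QuotientGroup.eq_one_iff]
  show e (q : ↥(P : Subgroup G) ⧸ Z) = 1 ↔ _
  rw [map_eq_one_iff _ e.injective]

section
variable {z : G} (D : Ext p P z) (φ : ↥(P : Subgroup G) →* Multiplicative (Fin 2 → ZMod p))
  (hφs : Function.Surjective φ) (hφk : ∀ q : ↥(P : Subgroup G), φ q = 1 ↔ (q : G) ∈ Subgroup.zpowers z)

/-- Additive coordinates. -/
def coord (q : ↥(P : Subgroup G)) : Fin 2 → ZMod p := Multiplicative.toAdd (φ q)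

/-- Coordinates over the algebraic closure. -/
noncomputable def up (v : Fin 2 → ZMod p) : Fin 2 → AlgebraicClosure (ZMod p) :=
  fun i => algebraMap (ZMod p) (AlgebraicClosure (ZMod p)) (v i)

omit [Finite G] in
theorem up_ne {v : Fin 2 → ZMod p} (hv : v ≠ 0) : up v ≠ 0 := fun h => hv (funext fun i =>
  (algebraMap (ZMod p) (AlgebraicClosure (ZMod p))).injective (by simpa [up] using congrFun h i))

include D hφs hφk in
omit [Finite G] in
theorem rep_exists :
    ∃ ρ : ↥(Subgroup.normalizer ((P : Subgroup G) : Set G)) →*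
        LinearMap.GeneralLinearGroup (AlgebraicClosure (ZMod p)) (Fin 2 → AlgebraicClosure (ZMod p)),
      ∀ (h : ↥(Subgroup.normalizer ((P : Subgroup G) : Set G))) (q : ↥(P : Subgroup G))
        (hq : (h : G) * q * (h : G)⁻¹ ∈ (P : Subgroup G)),
        ((ρ h : Module.End (AlgebraicClosure (ZMod p)) _) (up (coord φ q)) = up (coord φ ⟨_, hq⟩)) ∧
        ((h : G) ∈ (P : Subgroup G) → ρ h = 1) := by
  set N := Subgroup.normalizer ((P : Subgroup G) : Set G) with hN
  have hmem : ∀ (h : N) (q : ↥(P : Subgroup G)), (h : G) * q * (h : G)⁻¹ ∈ (P : Subgroup G) :=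
    fun h q => (Subgroup.mem_normalizer_iff.1 h.2 q).1 q.2
  let cj : N → (↥(P : Subgroup G) →* ↥(P : Subgroup G)) := fun h =>
    { toFun := fun q => ⟨_, hmem h q⟩
      map_one' := Subtype.ext (by simp)
      map_mul' := fun a b => Subtype.ext (by simp only [Subgroup.coe_mul]; group) }
  have hker : ∀ h : N, φ.ker ≤ (φ.comp (cj h)).ker := fun h q hq => by
    rw [MonoidHom.mem_ker, hφk] at hq
    show φ (cj h q) = 1
    rw [hφk]
    show (h : G) * q * (h : G)⁻¹ ∈ _
    obtain ⟨k, hk⟩ := Subgroup.mem_zpowers_iff.1 hq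
    have hzP : (h : G) * z * (h : G)⁻¹ ∈ (P : Subgroup G) := hmem h ⟨z, D.zP⟩
    have hz : (h : G) * z * (h : G)⁻¹ ∈ Subgroup.zpowers z := by
      by_contra hout
      obtain ⟨w, hw, hwc⟩ := D.noncentral _ hzP hout
      have hw' : (h : G)⁻¹ * w * h ∈ (P : Subgroup G) := by
        have := hmem h⁻¹ ⟨w, hw⟩
        simpa using this
      apply hwc
      have e := (D.central _ hw').eq
      show w * ((h : G) * z * (h : G)⁻¹) = (h : G) * z * (h : G)⁻¹ * w
      calc w * ((h : G) * z * (h : G)⁻¹) = (h : G) * ((h : G)⁻¹ * w * h * z) * (h : G)⁻¹ := by group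
        _ = _ := by rw [e]; group
    rw [← hk, ← conj_zpow]
    exact zpow_mem hz k
  let L : N → Module.End (ZMod p) (Fin 2 → ZMod p) := fun h =>
    (AddMonoidHom.toMultiplicative.symm (φ.liftOfSurjective hφs ⟨φ.comp (cj h), hker h⟩)).toZModLinearMap p
  have hL : ∀ h q, L h (coord φ q) = coord φ (cj h q) := fun h q => by
    show Multiplicative.toAdd (φ.liftOfSurjective hφs ⟨φ.comp (cj h), hker h⟩ (φ q)) = _
    rw [MonoidHom.liftOfSurjective, MonoidHom.liftOfRightInverse_comp_apply]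
    rfl
  clear_value L
  have hext : ∀ f f' : Module.End (ZMod p) (Fin 2 → ZMod p), (∀ q, f (coord φ q) = f' (coord φ q)) → f = f' :=
    fun f f' h => LinearMap.ext fun v => by
      obtain ⟨q, hq⟩ := hφs (Multiplicative.ofAdd v)
      have := h q
      rwa [coord, hq, toAdd_ofAdd] at this
  obtain ⟨ι, hι⟩ : ∃ ι, ι = algebraMap (ZMod p) (AlgebraicClosure (ZMod p)) := ⟨_, rfl⟩
  let R : N →* Module.End (AlgebraicClosure (ZMod p)) (Fin 2 → AlgebraicClosure (ZMod p)) :=
    { toFun := fun h => Matrix.toLin' ((LinearMap.toMatrix' (L h)).map ι)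
      map_one' := by
        rw [show L 1 = 1 from hext _ _ fun q => by
          rw [hL, Module.End.one_apply]; congr 1; exact Subtype.ext (show ((1 : N) : G) * q * ((1 : N) : G)⁻¹ = q by simp)]
        rw [Module.End.one_eq_id, LinearMap.toMatrix'_id, Matrix.map_one _ (map_zero ι) (map_one ι), Matrix.toLin'_one]
        rfl
      map_mul' := fun a b => by
        rw [show L (a * b) = L a * L b from hext _ _ fun q => by
          rw [hL, Module.End.mul_apply, hL, hL]; congr 1
          exact Subtype.ext (show ((a * b : N) : G) * q * ((a * b : N) : G)⁻¹ = (a : G) * ((b : G) * q * (b : G)⁻¹) * (a : G)⁻¹ by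
            push_cast; group)]
        rw [Module.End.mul_eq_comp, LinearMap.toMatrix'_comp, Matrix.map_mul, Matrix.toLin'_mul]
        rfl }
  have hR : ∀ h v, R h (up v) = up (L h v) := fun h v => funext fun i => by
    show (Matrix.toLin' ((LinearMap.toMatrix' (L h)).map ι)) (up v) i = _
    rw [Matrix.toLin'_apply, show up v = ι ∘ v by rw [hι]; rfl, ← RingHom.map_mulVec,
      LinearMap.toMatrix'_mulVec, hι]
    rfl
  refine ⟨R.toHomUnits, fun h q hq => ⟨?_, fun hP => ?_⟩⟩
  · rw [MonoidHom.coe_toHomUnits, hR, hL]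
    rfl
  · have hL1 : L h = 1 := hext _ _ fun q => by
      rw [hL, Module.End.one_apply]
      show Multiplicative.toAdd (φ _) = Multiplicative.toAdd (φ q)
      congr 1
      rw [show cj h q = ⟨(h : G), hP⟩ * q * ⟨(h : G), hP⟩⁻¹ from rfl, map_mul, map_mul, map_inv,
        mul_inv_cancel_comm]
    refine Units.ext ?_
    rw [MonoidHom.coe_toHomUnits, Units.val_one]
    show Matrix.toLin' ((LinearMap.toMatrix' (L h)).map ι) = 1
    rw [hL1, Module.End.one_eq_id, LinearMap.toMatrix'_id, Matrix.map_one _ (map_zero ι) (map_one ι), Matrix.toLin'_one]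
    rfl

end

/-- The bound: few lines of `P/Z` carry fusion of the centre. -/
theorem planes_bound {z : G} (D : Ext p P z) (hcard : Nat.card P = p ^ 3)
    (φ : ↥(P : Subgroup G) →* Multiplicative (Fin 2 → ZMod p)) (hφs : Function.Surjective φ)
    (hφk : ∀ q : ↥(P : Subgroup G), φ q = 1 ↔ (q : G) ∈ Subgroup.zpowers z)
    {I : Type*} [Fintype I] (x : I → ↥(P : Subgroup G)) (hx : ∀ i, ((x i : G)) ∉ Subgroup.zpowers z)
    (hind : ∀ i j, (∃ a : ZMod p, coord φ (x j) = a • coord φ (x i)) → i = j)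
    (hg : ∀ i, ∃ g : G, g * z * g⁻¹ = x i ∧ g⁻¹ * z * g ∈ (P : Subgroup G))
    (m : ℕ) (hm : 4 ≤ m) (hp : ∀ k, 0 < k → k < m → ¬ (p - 1) ∣ 3 * k) :
    Fintype.card I ≤ 12 ∧ (6 ≤ m → Fintype.card I ≤ 2) := by
  classical
  obtain ⟨ρ, hρ⟩ := rep_exists D φ hφs hφk
  have hmem : ∀ (h : ↥(Subgroup.normalizer ((P : Subgroup G) : Set G))) (q : ↥(P : Subgroup G)),
      (h : G) * q * (h : G)⁻¹ ∈ (P : Subgroup G) := fun h q => (Subgroup.mem_normalizer_iff.1 h.2 q).1 q.2
  have hcop : ∀ γ ∈ ρ.range, ∃ N : ℕ, (N : AlgebraicClosure (ZMod p)) ≠ 0 ∧ γ ^ N = 1 := by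
    rintro _ ⟨h, rfl⟩
    refine ⟨ρ.ker.index, fun h0 => ?_, ?_⟩
    · rw [CharP.cast_eq_zero_iff (AlgebraicClosure (ZMod p)) p] at h0
      have hle : (P : Subgroup G).subgroupOf (Subgroup.normalizer ((P : Subgroup G) : Set G)) ≤ ρ.ker :=
        fun q hq => (hρ q 1 (hmem q 1)).2 hq
      exact P.not_dvd_index (h0.trans ((Subgroup.index_dvd_of_le hle).trans (Subgroup.relIndex_dvd_index_of_le
        Subgroup.le_normalizer)))
    · rw [← map_pow]
      exact MonoidHom.mem_ker.1 (Subgroup.pow_index_mem ρ.ker h)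
  have hx0 : ∀ i, coord φ (x i) ≠ 0 := fun i h => hx i ((hφk _).1 (toAdd_eq_zero.1 h))
  obtain ⟨t, ht⟩ := IsCyclic.exists_ofOrder_eq_natCard (α := (ZMod p)ˣ)
  rw [Nat.card_eq_fintype_card, ZMod.card_units] at ht
  haveI : Finite ρ.range := Set.finite_range ρ |>.to_subtype
  let T : Finset (ℙ (AlgebraicClosure (ZMod p)) (Fin 2 → AlgebraicClosure (ZMod p))) :=
    Finset.univ.image fun i => mk _ (up (coord φ (x i))) (up_ne (hx0 i))
  have hTcard : T.card = Fintype.card I := by
    rw [Finset.card_image_of_injective, Finset.card_univ]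
    intro i j hij
    obtain ⟨a, ha⟩ := (mk_eq_mk_iff' _ _ _ _ _).1 hij.symm
    obtain ⟨c, hc⟩ : ∃ c, coord φ (x i) c ≠ 0 := Function.ne_iff.1 (hx0 i)
    refine hind i j ⟨coord φ (x j) c / coord φ (x i) c, funext fun k => ?_⟩
    apply (algebraMap (ZMod p) (AlgebraicClosure (ZMod p))).injective
    have hk := congrFun ha k
    have hc' := congrFun ha c
    simp only [Pi.smul_apply, smul_eq_mul, up] at hk hc' ⊢
    rw [map_mul, map_div₀, ← hk, ← hc', mul_div_assoc, div_self ((map_ne_zero _).2 hc), mul_one]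
  rw [← hTcard]
  refine lines_bound (Module.finrank_fin_fun (AlgebraicClosure (ZMod p))) ρ.range hcop m hm T fun w hw => ?_
  obtain ⟨i, -, rfl⟩ := Finset.mem_image.1 hw
  obtain ⟨g, hgx, hg'⟩ := hg i
  obtain ⟨h, hhN, hhx, -, u, hu, hux, huc⟩ := D.torus (x i).2 (hx i) hgx hg' ((t⁻¹ : (ZMod p)ˣ) : ZMod p) (t : ZMod p)
    (by rw [← Units.val_mul, inv_mul_cancel, Units.val_one])
  refine ⟨ρ ⟨h, hhN⟩, ⟨_, rfl⟩, ?_, fun k hk0 hkm hscal => hp k hk0 hkm ?_⟩
  · refine (fix_iff _ _).2 ⟨algebraMap (ZMod p) _ ((t⁻¹ : (ZMod p)ˣ) : ZMod p), ?_⟩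
    rw [(hρ ⟨h, hhN⟩ (x i) (hmem _ _)).1]
    rw [show (⟨h * (x i : G) * h⁻¹, hmem ⟨h, hhN⟩ (x i)⟩ : ↥(P : Subgroup G)) = (x i) ^ (((t⁻¹ : (ZMod p)ˣ) : ZMod p)).val
      from Subtype.ext (hhx.trans (SubmonoidClass.coe_pow _ _).symm)]
    rw [coord, map_pow, toAdd_pow, ← Nat.cast_smul_eq_nsmul (ZMod p), ZMod.natCast_zmod_val]
    funext j
    show algebraMap (ZMod p) _ (_ * _) = _ * _
    rw [map_mul]
    rfl
  · obtain ⟨s, hs⟩ : ∃ s : ZMod p, s = ((t⁻¹ : (ZMod p)ˣ) : ZMod p) := ⟨_, rfl⟩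
    have hq : ∀ q : ↥(P : Subgroup G), Commute (q : G) (x i) → ∃ c : ZMod p, coord φ q = c • coord φ (x i) := by
      intro q hqc
      by_contra hne
      push Not at hne
      have hli : LinearIndependent (ZMod p) ![coord φ (x i), coord φ q] :=
        (LinearIndependent.pair_iff' (hx0 i)).2 fun c hc => hne c hc.symm
      obtain ⟨w, hw, hwc⟩ := D.noncentral _ (x i).2 (hx i)
      have hmemspan : coord φ ⟨w, hw⟩ ∈ Submodule.span (ZMod p) (Set.range ![coord φ (x i), coord φ q]) := by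
        rw [hli.span_eq_top_of_card_eq_finrank (by simp)]
        trivial
      rw [Matrix.range_cons, Matrix.range_cons, Matrix.range_empty, Set.union_empty, Set.singleton_union,
        Submodule.mem_span_pair] at hmemspan
      obtain ⟨a, b, hab⟩ := hmemspan
      have h1 : φ (⟨w, hw⟩ * ((x i) ^ a.val * q ^ b.val)⁻¹) = 1 := by
        rw [map_mul, map_inv, mul_inv_eq_one, map_mul, map_pow, map_pow]
        apply Multiplicative.toAdd.injective
        rw [toAdd_mul, toAdd_pow, toAdd_pow]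
        show coord φ ⟨w, hw⟩ = a.val • coord φ (x i) + b.val • coord φ q
        rw [← hab, ← Nat.cast_smul_eq_nsmul (ZMod p), ← Nat.cast_smul_eq_nsmul (ZMod p), ZMod.natCast_zmod_val,
          ZMod.natCast_zmod_val]
      obtain ⟨n, hn⟩ := Subgroup.mem_zpowers_iff.1 ((hφk _).1 h1)
      apply hwc
      have hw' : w = z ^ n * ((x i : G) ^ a.val * (q : G) ^ b.val) := by
        rw [hn]; push_cast; group
      rw [hw']
      exact (((D.central _ (x i).2).zpow_right n).symm).mul_left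
        (((Commute.refl (x i : G)).pow_left _).mul_left (hqc.pow_left _))
    have hux' : ∀ c : ZMod p, coord φ ⟨u, hu⟩ ≠ c • coord φ (x i) := fun c hc => hux (by
      have h1 : φ (⟨u, hu⟩ * ((x i) ^ c.val)⁻¹) = 1 := by
        rw [map_mul, map_inv, mul_inv_eq_one, map_pow]
        apply Multiplicative.toAdd.injective
        rw [toAdd_pow]
        show coord φ ⟨u, hu⟩ = c.val • coord φ (x i)
        rw [hc, ← Nat.cast_smul_eq_nsmul (ZMod p), ZMod.natCast_zmod_val]
      obtain ⟨n, hn⟩ := Subgroup.mem_zpowers_iff.1 ((hφk _).1 h1)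
      have hu' : u = z ^ n * (x i : G) ^ c.val := by rw [hn]; push_cast; group
      rw [hu']
      exact (((D.central _ (x i).2).zpow_right n).symm).mul_left ((Commute.refl _).pow_left _))
    have hhx' : coord φ ⟨_, hmem ⟨h, hhN⟩ (x i)⟩ = s • coord φ (x i) := by
      rw [show (⟨h * (x i : G) * h⁻¹, hmem ⟨h, hhN⟩ (x i)⟩ : ↥(P : Subgroup G)) = (x i) ^ s.val
        from Subtype.ext (hhx.trans (by rw [SubmonoidClass.coe_pow, hs]))]
      rw [coord, map_pow, toAdd_pow, ← Nat.cast_smul_eq_nsmul (ZMod p), ZMod.natCast_zmod_val]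
      rfl
    obtain ⟨c, hc⟩ := hq ((⟨u, hu⟩ ^ ((t : ZMod p) * t).val)⁻¹ * ⟨_, hmem ⟨h, hhN⟩ ⟨u, hu⟩⟩) (by simpa using huc)
    have hhu' : coord φ ⟨_, hmem ⟨h, hhN⟩ ⟨u, hu⟩⟩ = ((t : ZMod p) * t) • coord φ ⟨u, hu⟩ + c • coord φ (x i) := by
      rw [← hc, coord, coord, coord, map_mul, map_inv, map_pow, toAdd_mul, toAdd_inv, toAdd_pow,
        ← Nat.cast_smul_eq_nsmul (ZMod p), ZMod.natCast_zmod_val]
      abel
    have hup : ∀ (a : ZMod p) (v : Fin 2 → ZMod p), up (a • v) = algebraMap (ZMod p) (AlgebraicClosure (ZMod p)) a • up v :=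
      fun a v => funext fun j => by simp [up]
    have hupa : ∀ v w : Fin 2 → ZMod p, up (v + w) = up v + up w := fun v w => funext fun j => by simp [up]
    have h1 := fun q => (hρ ⟨h, hhN⟩ q (hmem _ q)).1
    have hpow : ∀ n : ℕ, ∃ c : ZMod p,
        (((ρ ⟨h, hhN⟩) ^ n : LinearMap.GeneralLinearGroup (AlgebraicClosure (ZMod p)) (Fin 2 → AlgebraicClosure (ZMod p))) : Module.End (AlgebraicClosure (ZMod p)) (Fin 2 → AlgebraicClosure (ZMod p))) (up (coord φ (x i))) = up (s ^ n • coord φ (x i)) ∧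
        (((ρ ⟨h, hhN⟩) ^ n : LinearMap.GeneralLinearGroup (AlgebraicClosure (ZMod p)) (Fin 2 → AlgebraicClosure (ZMod p))) : Module.End (AlgebraicClosure (ZMod p)) (Fin 2 → AlgebraicClosure (ZMod p))) (up (coord φ ⟨u, hu⟩)) =
          up (((t : ZMod p) * t) ^ n • coord φ ⟨u, hu⟩ + c • coord φ (x i)) := by
      intro n
      induction n with
      | zero => exact ⟨0, by simp, by simp⟩
      | succ n ih =>
        obtain ⟨c', e1, e2⟩ := ih
        refine ⟨((t : ZMod p) * t) ^ n * c + c' * s, ?_, ?_⟩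
        · rw [pow_succ', Units.val_mul, Module.End.mul_apply, e1, hup, map_smul, h1, hhx', ← hup, smul_smul, ← pow_succ]
        · rw [pow_succ', Units.val_mul, Module.End.mul_apply, e2, hupa, hup, hup, map_add, map_smul, map_smul, h1, h1,
            hhx', hhu', ← hup, ← hup, ← hupa]
          congr 1
          rw [smul_add, smul_smul, smul_smul, smul_smul, add_assoc, ← add_smul, pow_succ]
    obtain ⟨c', e1, e2⟩ := hpow k
    obtain ⟨a, ha⟩ := hscal
    rw [ha] at e1 e2
    have hinj : Function.Injective (up : (Fin 2 → ZMod p) → _) := fun v w hvw =>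
      funext fun j => (algebraMap (ZMod p) (AlgebraicClosure (ZMod p))).injective (congrFun hvw j)
    have hXne := up_ne (hx0 i)
    rw [hup] at e1
    have ha' : a = algebraMap (ZMod p) _ (s ^ k) := by
      by_contra hne
      have : (a - algebraMap (ZMod p) _ (s ^ k)) • up (coord φ (x i)) = 0 := by rw [sub_smul, e1, sub_self]
      exact hXne ((smul_eq_zero.1 this).resolve_left (sub_ne_zero.2 hne))
    rw [ha', ← hup] at e2
    have e3 := hinj e2
    by_cases hts : s ^ k = ((t : ZMod p) * t) ^ k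
    · rw [← ht]
      refine orderOf_dvd_of_pow_eq_one (Units.ext ?_)
      rw [Units.val_pow_eq_pow_val, Units.val_one]
      calc (t : ZMod p) ^ (3 * k) = ((t : ZMod p) * t) ^ k * (t : ZMod p) ^ k := by ring
        _ = 1 := by rw [← hts, hs, ← mul_pow, ← Units.val_mul, inv_mul_cancel, Units.val_one, one_pow]
    · exfalso
      refine hux' ((s ^ k - ((t : ZMod p) * t) ^ k)⁻¹ * c') ?_
      have h4 : (s ^ k - ((t : ZMod p) * t) ^ k) • coord φ ⟨u, hu⟩ = c' • coord φ (x i) := by
        rw [sub_smul, e3, add_sub_cancel_left]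
      rw [← smul_smul, ← h4, smul_smul, inv_mul_cancel₀ (sub_ne_zero.2 hts), one_smul]

end CfsgLib.ExtraFusion
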